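import Groth.Agent.Lib.EtSlice1.Ring
import Mathlib

/-! # Etale immersed slices of standard smooth algebras separate functions -/

set_option autoImplicit false
set_option linter.style.haveILetI false
universe u

open CategoryTheory AlgebraicGeometry
open scoped TensorProduct

attribute [local instance] Algebra.TensorProduct.rightAlgebra

namespace Groth.Agent.EtSlice1

theorem isImmersion_E {R : Type u} [CommRing R] {n : ℕ} (P : Fin n → MvPolynomial (Fin n) R) :
    IsImmersion (Spec.map (CommRingCat.ofHom (algebraMap (MvPolynomial (Fin n) R) (E P)))) := by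
  let Q := MvPolynomial (Fin n) R ⧸ Ideal.span (Set.range P)
  rw [show algebraMap (MvPolynomial (Fin n) R) (E P) = (algebraMap Q (E P)).comp (Ideal.Quotient.mk _) from rfl,
    CommRingCat.ofHom_comp, Spec.map_comp]
  haveI : IsOpenImmersion (Spec.map (CommRingCat.ofHom (algebraMap Q (E P)))) :=
    IsOpenImmersion.of_isLocalization (Ideal.Quotient.mk (Ideal.span (Set.range P)) (Hens.jacDet P))
  haveI : IsClosedImmersion (Spec.map (CommRingCat.ofHom (Ideal.Quotient.mk (Ideal.span (Set.range P))))) :=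
    IsClosedImmersion.spec_of_surjective _ Ideal.Quotient.mk_surjective
  infer_instance

/-- The base change of an immersion of affine schemes. -/
theorem isImmersion_includeRight {K B C : Type u} [CommRing K] [CommRing B] [CommRing C] [Algebra K B] [Algebra K C]
    (h : IsImmersion (Spec.map (CommRingCat.ofHom (algebraMap K B)))) :
    IsImmersion (Spec.map (CommRingCat.ofHom
      ((Algebra.TensorProduct.includeRight : C →ₐ[K] B ⊗[K] C).toRingHom))) :=
  MorphismProperty.of_isPullback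
    (isPullback_SpecMap_of_isPushout _ _ _ _ (CommRingCat.isPushout_tensorProduct K B C)) h

theorem isImmersion_includeLeft {K B C : Type u} [CommRing K] [CommRing B] [CommRing C] [Algebra K B] [Algebra K C]
    (h : IsImmersion (Spec.map (CommRingCat.ofHom (algebraMap K C)))) :
    IsImmersion (Spec.map (CommRingCat.ofHom
      (Algebra.TensorProduct.includeLeftRingHom : B →+* B ⊗[K] C))) :=
  MorphismProperty.of_isPullback
    (isPullback_SpecMap_of_isPushout _ _ _ _ (CommRingCat.isPushout_tensorProduct K B C)).flip h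

theorem exists_immersion_baseChange (R S A₁ : Type u) [CommRing R] [CommRing S] [IsNoetherianRing S] [Algebra S R]
    (hinj : Function.Injective (algebraMap S R)) [CommRing A₁] [Algebra S A₁] {n : ℕ}
    [Algebra (MvPolynomial (Fin n) S) A₁] [IsScalarTower S (MvPolynomial (Fin n) S) A₁]
    [Algebra.Etale (MvPolynomial (Fin n) S) A₁] {t : A₁} (ht : t ≠ 0) :
    ∃ (Z : Type u) (_ : CommRing Z) (_ : Algebra R Z) (π : R ⊗[S] A₁ →ₐ[R] Z),
      Algebra.Etale R Z ∧ IsImmersion (Spec.map (CommRingCat.ofHom π.toRingHom)) ∧ π ((1 : R) ⊗ₜ[S] t) ≠ 0 := by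
  obtain ⟨PP, hPP⟩ := exists_slice (R := S) n ht
  haveI : Algebra.Etale S (E PP) := Hens.etale_away_jacDet PP
  haveI : Algebra.Etale S (E PP ⊗[MvPolynomial (Fin n) S] A₁) :=
    Algebra.Etale.comp S (E PP) (E PP ⊗[MvPolynomial (Fin n) S] A₁)
  haveI : IsScalarTower S A₁ (E PP ⊗[MvPolynomial (Fin n) S] A₁) := .of_algebraMap_eq fun x =>
    (((Algebra.TensorProduct.includeRight : A₁ →ₐ[MvPolynomial (Fin n) S]
      E PP ⊗[MvPolynomial (Fin n) S] A₁).restrictScalars S).commutes x).symm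
  let c := Algebra.IsPushout.cancelBaseChangeAlg S R A₁ (R ⊗[S] A₁) (E PP ⊗[MvPolynomial (Fin n) S] A₁)
  refine ⟨(R ⊗[S] A₁) ⊗[A₁] (E PP ⊗[MvPolynomial (Fin n) S] A₁), inferInstance, inferInstance,
    Algebra.TensorProduct.includeLeft, Algebra.Etale.of_equiv c.symm, ?_, fun h => ?_⟩
  · exact isImmersion_includeLeft (K := A₁) (B := R ⊗[S] A₁)
      (isImmersion_includeRight (C := A₁) (isImmersion_E PP))
  · have h2 : c (((1 : R) ⊗ₜ[S] t) ⊗ₜ[A₁] 1) = (1 : R) ⊗ₜ[S] ((1 : E PP) ⊗ₜ[MvPolynomial (Fin n) S] t) := by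
      rw [← Algebra.IsPushout.cancelBaseChangeAlg_tmul S R A₁ (R ⊗[S] A₁)
        (E PP ⊗[MvPolynomial (Fin n) S] A₁) ((1 : E PP) ⊗ₜ[MvPolynomial (Fin n) S] t)]
      refine congrArg c ?_
      rw [show (1 : R) ⊗ₜ[S] t = t • (1 : R ⊗[S] A₁) from Algebra.algebraMap_eq_smul_one (A := R ⊗[S] A₁) t,
        TensorProduct.smul_tmul, ← Algebra.algebraMap_eq_smul_one]
      rfl
    replace h : ((1 : R) ⊗ₜ[S] t) ⊗ₜ[A₁] (1 : E PP ⊗[MvPolynomial (Fin n) S] A₁) = 0 := h
    rw [h, map_zero] at h2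
    exact hPP (Algebra.TensorProduct.includeRight_injective (R := S) (A := R)
      (B := E PP ⊗[MvPolynomial (Fin n) S] A₁) hinj (h2.symm.trans (map_zero _).symm))

/-- Over any base, etale immersed slices of a standard smooth algebra separate functions. -/
theorem exists_immersion (R A : Type u) [CommRing R] [CommRing A] [Algebra R A]
    [Algebra.IsStandardSmooth R A] {t : A} (ht : t ≠ 0) :
    ∃ (Z : Type u) (_ : CommRing Z) (_ : Algebra R Z) (π : A →ₐ[R] Z),
      Algebra.Etale R Z ∧ IsImmersion (Spec.map (CommRingCat.ofHom π.toRingHom)) ∧ π t ≠ 0 := by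
  classical
  obtain ⟨ι, σ, _, _, ⟨P⟩⟩ := (inferInstance : Algebra.IsStandardSmooth R A).out
  haveI : Algebra.IsStandardSmoothOfRelativeDimension P.dimension R A := ⟨ι, σ, _, inferInstance, P, rfl⟩
  obtain ⟨R₀, A₀, _, _, hfg, hsm, ⟨e⟩⟩ :=
    Algebra.IsStandardSmoothOfRelativeDimension.exists_subalgebra_fg (R := ℤ) (A := R) (B := A) P.dimension
  obtain ⟨T, hT⟩ := TensorProduct.exists_finset (e t)
  let S : Subalgebra ℤ R := R₀ ⊔ Algebra.adjoin ℤ (↑(T.image Prod.fst) : Set R)
  haveI : Algebra.FiniteType ℤ S :=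
    (Subalgebra.fg_iff_finiteType S).1 (hfg.sup (Subalgebra.fg_adjoin_finset _))
  haveI : IsNoetherianRing S := Algebra.FiniteType.isNoetherianRing ℤ S
  letI : Algebra R₀ S := (Subalgebra.inclusion le_sup_left).toRingHom.toAlgebra
  haveI : IsScalarTower R₀ S R := .of_algebraMap_eq fun _ => rfl
  let A₁ := S ⊗[R₀] A₀
  haveI : Algebra.IsStandardSmoothOfRelativeDimension P.dimension S A₁ :=
    Algebra.IsStandardSmoothOfRelativeDimension.baseChange _ _
  let e1 : A ≃ₐ[R] R ⊗[S] A₁ :=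
    e.trans (Algebra.TensorProduct.cancelBaseChange R₀ S R R A₀).symm
  let t1 : A₁ := ∑ x ∈ T.attach,
    (⟨x.1.1, (le_sup_right : _ ≤ S) (Algebra.subset_adjoin (Finset.mem_image_of_mem _ x.2))⟩ : S) ⊗ₜ[R₀] x.1.2
  have ht1 : e1 t = (1 : R) ⊗ₜ[S] t1 := by
    show (Algebra.TensorProduct.cancelBaseChange R₀ S R R A₀).symm (e t) = _
    rw [AlgEquiv.symm_apply_eq, hT, TensorProduct.tmul_sum, map_sum, ← Finset.sum_attach]
    refine Finset.sum_congr rfl fun x _ => ?_
    rw [Algebra.TensorProduct.cancelBaseChange_tmul, Algebra.smul_def, mul_one]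
    rfl
  have ht1' : t1 ≠ 0 := fun h => ht (e1.injective (by rw [ht1, h, TensorProduct.tmul_zero, map_zero]))
  obtain ⟨g, hg⟩ := Algebra.IsStandardSmoothOfRelativeDimension.exists_etale_mvPolynomial P.dimension S A₁
  letI : Algebra (MvPolynomial (Fin P.dimension) S) A₁ := g.toRingHom.toAlgebra
  haveI : IsScalarTower S (MvPolynomial (Fin P.dimension) S) A₁ := .of_algebraMap_eq fun x => (g.commutes x).symm
  haveI : Algebra.Etale (MvPolynomial (Fin P.dimension) S) A₁ := hg
  obtain ⟨Z, i1, i2, π, hZ, hi, hne⟩ := exists_immersion_baseChange R S A₁ (n := P.dimension) Subtype.val_injective ht1'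
  refine ⟨Z, i1, i2, π.comp e1.toAlgHom, hZ, ?_, ?_⟩
  · rw [show CommRingCat.ofHom (π.comp e1.toAlgHom).toRingHom =
      CommRingCat.ofHom (e1.toAlgHom.toRingHom : A →+* R ⊗[S] A₁) ≫ CommRingCat.ofHom π.toRingHom from rfl,
      Spec.map_comp]
    exact MorphismProperty.comp_mem _ _ _ hi
      (inferInstanceAs (IsImmersion (Spec.map (RingEquiv.toCommRingCatIso
        (R := CommRingCat.of A) (S := CommRingCat.of (R ⊗[S] A₁)) e1.toRingEquiv).hom)))
  · show π (e1 t) ≠ 0
    rwa [ht1]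

end Groth.Agent.EtSlice1
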