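import Groth.Agent.Lib.SmoothSection.Basic
import Groth.Agent.Lib.Hens.System
import Groth.Agent.Lib.Hens.Reduced
import Groth.Agent.Lib.LeftInv.Basic
import Mathlib

/-! # Etale slices of smooth algebras separate functions -/

set_option autoImplicit false
set_option linter.style.haveILetI false
universe u

open scoped TensorProduct

namespace Groth.Agent.EtSlice1

/-- The etale algebra cut out by a square system. -/
abbrev E {R : Type u} [CommRing R] {n : ℕ} (P : Fin n → MvPolynomial (Fin n) R) : Type u :=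
  Localization.Away (Ideal.Quotient.mk (Ideal.span (Set.range P)) (Hens.jacDet P))

/-- A polynomial over a residue field is a nonzero multiple of a polynomial over the ring. -/
theorem exists_lift_mul {R : Type u} [CommRing R] (p : Ideal R) [p.IsPrime] (h : Polynomial p.ResidueField) :
    ∃ (P : Polynomial R) (c : p.ResidueField), c ≠ 0 ∧
      P.map (algebraMap R p.ResidueField) = Polynomial.C c * h := by
  obtain ⟨b, hb⟩ := IsLocalization.integerNormalization_map_to_map (nonZeroDivisors (R ⧸ p)) h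
  obtain ⟨P, hP⟩ := Polynomial.map_surjective (Ideal.Quotient.mk p) Ideal.Quotient.mk_surjective
    (IsLocalization.integerNormalization (nonZeroDivisors (R ⧸ p)) h)
  refine ⟨P, algebraMap (R ⧸ p) p.ResidueField b, IsFractionRing.to_map_ne_zero_of_mem_nonZeroDivisors b.2, ?_⟩
  rw [IsScalarTower.algebraMap_eq R (R ⧸ p) p.ResidueField, ← Polynomial.map_map,
    Ideal.Quotient.algebraMap_eq, hP, hb, Algebra.smul_def, Polynomial.algebraMap_apply]

theorem pderiv_aeval_X {R : Type u} [CommRing R] {n : ℕ} (i j : Fin n) (p : Polynomial R) :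
    MvPolynomial.pderiv j (Polynomial.aeval (MvPolynomial.X i : MvPolynomial (Fin n) R) p) =
      Polynomial.aeval (MvPolynomial.X i) (Polynomial.derivative p) * MvPolynomial.pderiv j (MvPolynomial.X i) := by
  induction p using Polynomial.induction_on' with
  | add p q hp hq => simp only [map_add, hp, hq, add_mul]
  | monomial k a =>
    rw [Polynomial.derivative_monomial, Polynomial.aeval_monomial, Polynomial.aeval_monomial, Derivation.leibniz,
      MvPolynomial.algebraMap_eq, MvPolynomial.pderiv_C, smul_zero, add_zero, Derivation.leibniz_pow,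
      smul_eq_mul, smul_eq_mul, nsmul_eq_mul, map_mul, map_natCast]
    ring

/-- Separable points avoiding a nonzero function, cut out by separable polynomials in the coordinates. -/
theorem exists_slice_point {κ F : Type u} [Field κ] [CommRing F] [Algebra κ F] {n : ℕ}
    [Algebra (MvPolynomial (Fin n) κ) F] [IsScalarTower κ (MvPolynomial (Fin n) κ) F]
    [Algebra.Etale (MvPolynomial (Fin n) κ) F] {c : F} (hc : c ≠ 0) :
    ∃ (Q : Ideal F) (_ : Q.IsPrime) (h : Fin n → Polynomial κ), c ∉ Q ∧
      ∀ i, algebraMap (MvPolynomial (Fin n) κ) F (Polynomial.aeval (MvPolynomial.X i) (h i)) ∈ Q ∧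
        algebraMap (MvPolynomial (Fin n) κ) F (Polynomial.aeval (MvPolynomial.X i) (Polynomial.derivative (h i))) ∉ Q := by
  haveI : IsReduced F := Hens.isReduced_of_etale (MvPolynomial (Fin n) κ) F
  have hne : ¬ IsNilpotent c := fun h => hc h.eq_zero
  rw [← mem_nilradical, nilradical_eq_sInf, Ideal.mem_sInf] at hne
  push Not at hne
  obtain ⟨Q₀, hQ₀, hcQ₀⟩ := hne
  haveI : Q₀.IsPrime := hQ₀
  let φ := algebraMap (MvPolynomial (Fin n) κ) F
  have hopen : IsOpen (PrimeSpectrum.comap φ '' (PrimeSpectrum.basicOpen c : Set (PrimeSpectrum F))) :=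
    PrimeSpectrum.isOpenMap_comap_of_hasGoingDown_of_finitePresentation _ (PrimeSpectrum.isOpen_basicOpen)
  obtain ⟨_, ⟨g, rfl⟩, hg₁, hg₂⟩ := PrimeSpectrum.isTopologicalBasis_basic_opens.exists_subset_of_mem_open
    (Set.mem_image_of_mem _ (show (⟨Q₀, ‹_›⟩ : PrimeSpectrum F) ∈ PrimeSpectrum.basicOpen c from hcQ₀)) hopen
  have hg0 : g ≠ 0 := fun h => hg₁ (by rw [h]; exact zero_mem _)
  obtain ⟨K, a, hK, ha⟩ := SmoothSection.exists_separable_nonvanishing hg0
  let P₁ : Ideal (MvPolynomial (Fin n) κ) := RingHom.ker (MvPolynomial.aeval (R := κ) a)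
  haveI : P₁.IsPrime := RingHom.ker_isPrime _
  obtain ⟨Q, hQc, hQP⟩ := hg₂ (show (⟨P₁, ‹_›⟩ : PrimeSpectrum _) ∈ PrimeSpectrum.basicOpen g from ha)
  haveI := Algebra.isSeparable_tower_bot_of_isSeparable κ K (SeparableClosure κ)
  have hQ1 : ∀ x, φ x ∈ Q.asIdeal ↔ MvPolynomial.aeval a x = 0 := fun x => by
    have := congrArg (fun q : PrimeSpectrum _ => q.asIdeal) hQP
    change Q.asIdeal.comap φ = P₁ at this
    rw [← Ideal.mem_comap, this]
    rfl
  refine ⟨Q.asIdeal, Q.2, fun i => minpoly κ (a i), hQc, fun i => ⟨?_, fun h => ?_⟩⟩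
  · rw [hQ1, ← Polynomial.aeval_algHom_apply, MvPolynomial.aeval_X, minpoly.aeval]
  · rw [hQ1, ← Polynomial.aeval_algHom_apply, MvPolynomial.aeval_X] at h
    exact (Algebra.IsSeparable.isSeparable κ (a i)).aeval_derivative_ne_zero (minpoly.aeval κ (a i)) h

section Core

variable {R A : Type u} [CommRing R] [CommRing A] [Algebra R A] {n : ℕ}
  [Algebra (MvPolynomial (Fin n) R) A] [IsScalarTower R (MvPolynomial (Fin n) R) A]
  [Algebra.Etale (MvPolynomial (Fin n) R) A]

theorem exists_functional (p : Ideal R) [p.IsPrime] (M : Type u) [AddCommGroup M] [Module R M]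
    [Module.Finite R M] (τ : M ⊗[R] A)
    (hτ : ∀ s, s ∉ p → s • τ ∉ p • (⊤ : Submodule R (M ⊗[R] A))) :
    ∃ θ : M →ₗ[R] p.ResidueField, TensorProduct.map θ (LinearMap.id : A →ₗ[R] A) τ ≠ 0 := by
  classical
  by_contra h
  push Not at h
  let κ := p.ResidueField
  obtain ⟨ι, _, ⟨e⟩⟩ : ∃ (ι : Type u) (_ : Fintype ι), Nonempty ((κ ⊗[R] M) ≃ₗ[κ] (ι → κ)) :=
    ⟨_, inferInstance, ⟨(Module.Free.chooseBasis κ (κ ⊗[R] M)).equivFun⟩⟩
  let ι₀ : M →ₗ[R] κ ⊗[R] M := TensorProduct.mk R κ M 1
  have h1 : ∀ i, TensorProduct.map ((LinearMap.proj i).comp ((e.restrictScalars R).toLinearMap.comp ι₀))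
      (LinearMap.id : A →ₗ[R] A) τ = 0 := fun i => h _
  let E' : (κ ⊗[R] M) ⊗[R] A ≃ₗ[R] (ι → κ ⊗[R] A) :=
    (TensorProduct.congr (e.restrictScalars R) (LinearEquiv.refl R A)).trans
      (TensorProduct.piLeft R A fun _ => κ)
  have hE : ∀ (x : M ⊗[R] A) (i : ι), E' (ι₀.rTensor A x) i =
      TensorProduct.map ((LinearMap.proj i).comp ((e.restrictScalars R).toLinearMap.comp ι₀))
        (LinearMap.id : A →ₗ[R] A) x := by
    intro x i
    induction x with
    | zero => simp
    | tmul m a => simp [E', ι₀]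
    | add x y hx hy => rw [map_add, map_add, Pi.add_apply, hx, hy, map_add]
  have h2 : ι₀.rTensor A τ = 0 := by
    apply E'.injective
    rw [map_zero]
    funext i
    exact (hE τ i).trans (h1 i)
  have h3 : (1 : κ) ⊗ₜ[R] τ = 0 := by
    have hA : ∀ x : M ⊗[R] A, TensorProduct.assoc R κ M A (ι₀.rTensor A x) = (1 : κ) ⊗ₜ[R] x := by
      intro x
      induction x with
      | zero => simp
      | tmul m a => simp [ι₀]
      | add x y hx hy => rw [TensorProduct.tmul_add, map_add, map_add, hx, hy]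
    rw [← hA τ, h2, map_zero]
  obtain ⟨s, hs, hs'⟩ := LeftInv.exists_smul_mem_of_tmul_eq_zero p h3
  exact hτ s hs hs'

attribute [local instance] MvPolynomial.algebraMvPolynomial

variable (n) in
theorem exists_slice [IsNoetherianRing R] {t : A} (ht : t ≠ 0) :
    ∃ P : Fin n → MvPolynomial (Fin n) R, (1 : E P) ⊗ₜ[MvPolynomial (Fin n) R] t ≠ 0 := by
  classical
  haveI : IsNoetherianRing A := Algebra.FiniteType.isNoetherianRing (MvPolynomial (Fin n) R) A
  -- a point and an order
  obtain ⟨P, hP, hle⟩ := Ideal.exists_le_maximal (Ideal.span {t}).annihilator (fun h => ht (by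
    have : (1 : A) • t = 0 := Submodule.mem_annihilator.1 (h ▸ Submodule.mem_top) t (Ideal.mem_span_singleton_self t)
    simpa using this))
  let p : Ideal R := P.comap (algebraMap R A)
  haveI : p.IsPrime := Ideal.comap_isPrime _ _
  have hne : algebraMap A (Localization.AtPrime P) t ≠ 0 := fun h => by
    obtain ⟨⟨s, hs⟩, hst⟩ := (IsLocalization.map_eq_zero_iff P.primeCompl _ _).1 h
    refine hs (hle (Submodule.mem_annihilator.2 fun x hx => ?_))
    obtain ⟨c, rfl⟩ := Ideal.mem_span_singleton'.1 hx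
    rw [smul_eq_mul, mul_left_comm]
    change s * t = 0 at hst
    rw [hst, mul_zero]
  haveI : IsNoetherianRing (Localization.AtPrime P) := IsLocalization.isNoetherianRing P.primeCompl _ inferInstance
  let J := (p.map (algebraMap R A)).map (algebraMap A (Localization.AtPrime P))
  have hJ : J ≠ ⊤ := ne_top_of_le_ne_top (IsLocalRing.maximalIdeal.isMaximal (Localization.AtPrime P)).ne_top
    ((Ideal.map_mono Ideal.map_comap_le).trans (Localization.AtPrime.map_eq_maximalIdeal (I := P)).le)
  obtain ⟨i, hi, hi'⟩ : ∃ i, algebraMap A (Localization.AtPrime P) t ∈ J ^ i ∧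
      algebraMap A (Localization.AtPrime P) t ∉ J ^ (i + 1) := by
    by_contra h
    push Not at h
    have hall : ∀ i, algebraMap A (Localization.AtPrime P) t ∈ J ^ i := fun i => by
      induction i with
      | zero => simp
      | succ i ih => exact h i ih
    refine hne ?_
    have := Ideal.mem_iInf.2 hall
    rwa [Ideal.iInf_pow_eq_bot_of_isLocalRing J hJ, Ideal.mem_bot] at this
  rw [← Ideal.map_pow, ← Ideal.map_pow, IsLocalization.algebraMap_mem_map_algebraMap_iff P.primeCompl] at hi hi'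
  obtain ⟨g, hg, hgt⟩ := hi
  push Not at hi'
  -- the tensor
  let M := ↥(p ^ i)
  let μ : M ⊗[R] A →ₗ[R] A := TensorProduct.lift ((LinearMap.lsmul R A).comp (p ^ i).subtype)
  obtain ⟨τ, hτ⟩ : ∃ τ, μ τ = g * t := by
    have hle : ((p ^ i).map (algebraMap R A)).restrictScalars R ≤ LinearMap.range μ := by
      rw [← Ideal.smul_top_eq_map]
      exact Submodule.smul_le.2 fun r hr x _ => ⟨(⟨r, hr⟩ : M) ⊗ₜ x, rfl⟩
    exact hle hgt
  obtain ⟨θ, hθ⟩ := exists_functional (A := A) p M τ fun s hs hmem => by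
    have h1 : μ (s • τ) ∈ ((p ^ (i + 1)).map (algebraMap R A)).restrictScalars R := by
      rw [← Ideal.smul_top_eq_map, pow_succ', Submodule.mul_smul]
      have hrange : LinearMap.range μ ≤ (p ^ i) • (⊤ : Submodule R A) := by
        rintro _ ⟨x, rfl⟩
        induction x with
        | zero => simp
        | tmul m a => exact Submodule.smul_mem_smul m.2 trivial
        | add x y hx hy => rw [map_add]; exact add_mem hx hy
      refine Submodule.smul_mono le_rfl hrange ?_
      rw [← Submodule.map_top μ, ← Submodule.map_smul'']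
      exact Submodule.mem_map_of_mem hmem
    rw [map_smul, hτ, Algebra.smul_def, ← mul_assoc, Submodule.restrictScalars_mem] at h1
    exact hi' (algebraMap R A s * g) (P.primeCompl.mul_mem hs hg) h1
  -- the fibre
  let κ := p.ResidueField
  let F := MvPolynomial (Fin n) κ ⊗[MvPolynomial (Fin n) R] A
  haveI : Algebra.IsPushout R κ (MvPolynomial (Fin n) R) (MvPolynomial (Fin n) κ) := inferInstance
  let e : F ≃ₐ[κ] κ ⊗[R] A :=
    Algebra.IsPushout.cancelBaseChangeAlg R κ (MvPolynomial (Fin n) R) (MvPolynomial (Fin n) κ) A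
  let c : F := e.symm (TensorProduct.map θ (LinearMap.id : A →ₗ[R] A) τ)
  have hc : c ≠ 0 := fun h => hθ (by
    have := congrArg e h
    rwa [map_zero, AlgEquiv.apply_symm_apply] at this)
  obtain ⟨Q, _, h, hcQ, hh⟩ := exists_slice_point (κ := κ) (n := n) hc
  choose Pl cl hcl hPl using fun i => exists_lift_mul p (h i)
  let PP : Fin n → MvPolynomial (Fin n) R := fun i => Polynomial.aeval (MvPolynomial.X i) (Pl i)
  refine ⟨PP, fun h0 => ?_⟩
  let L := Q.ResidueField
  let ψF : F →+* L := algebraMap F L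
  have hQ : ∀ x, ψF x = 0 ↔ x ∈ Q := fun x => Ideal.algebraMap_residueField_eq_zero
  let ψX : MvPolynomial (Fin n) κ →+* L := ψF.comp (algebraMap _ F)
  let ψA : A →+* L := ψF.comp (Algebra.TensorProduct.includeRight : A →ₐ[MvPolynomial (Fin n) R] F).toRingHom
  let ψR : MvPolynomial (Fin n) R →+* L := algebraMap (MvPolynomial (Fin n) R) L
  have hψR : ∀ x, ψR x = ψX (algebraMap (MvPolynomial (Fin n) R) (MvPolynomial (Fin n) κ) x) := fun x => by
    show algebraMap _ L x = _
    rw [IsScalarTower.algebraMap_apply (MvPolynomial (Fin n) R) F L,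
      IsScalarTower.algebraMap_apply (MvPolynomial (Fin n) R) (MvPolynomial (Fin n) κ) F]
    rfl
  let gA : A →ₐ[MvPolynomial (Fin n) R] L :=
    { ψA with
      commutes' := fun x => by
        refine (congrArg ψF (AlgHom.commutes
          (Algebra.TensorProduct.includeRight : A →ₐ[MvPolynomial (Fin n) R] F) x)).trans ?_
        exact (IsScalarTower.algebraMap_apply (MvPolynomial (Fin n) R) F L x).symm }
  have hmap : ∀ (i : Fin n) (q : Polynomial R), ψR (Polynomial.aeval (MvPolynomial.X i) q) =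
      ψX (Polynomial.aeval (MvPolynomial.X i) (q.map (algebraMap R κ))) := fun i q => by
    rw [hψR]
    refine congrArg ψX ?_
    show MvPolynomial.map (algebraMap R κ) _ = _
    rw [Polynomial.aeval_def, Polynomial.aeval_def, Polynomial.eval₂_map, Polynomial.hom_eval₂, MvPolynomial.map_X]
    congr 1
    ext r
    simp
  have hC : ∀ i, ψX (MvPolynomial.C (cl i)) ≠ 0 := fun i =>
    fun h => hcl i ((map_eq_zero (ψX.comp MvPolynomial.C)).1 h)
  have hP0 : ∀ i, ψR (PP i) = 0 := fun i => by
    rw [hmap, hPl, map_mul, Polynomial.aeval_C, map_mul]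
    exact mul_eq_zero_of_right _ ((hQ _).2 (hh i).1)
  have hjac : ψR (Hens.jacDet PP) ≠ 0 := by
    have hd : Hens.jacDet PP =
        ∏ i, Polynomial.aeval (MvPolynomial.X i : MvPolynomial (Fin n) R) (Polynomial.derivative (Pl i)) := by
      rw [Hens.jacDet, ← Matrix.det_diagonal]
      congr 1
      ext a b
      rw [Matrix.of_apply, pderiv_aeval_X, MvPolynomial.pderiv_X, Matrix.diagonal_apply]
      rcases eq_or_ne a b with rfl | hab
      · simp
      · simp [Pi.single_eq_of_ne hab, hab]
    rw [hd, map_prod]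
    refine Finset.prod_ne_zero_iff.2 fun i _ => ?_
    rw [hmap, ← Polynomial.derivative_map, hPl, Polynomial.derivative_C_mul, map_mul, Polynomial.aeval_C, map_mul]
    exact mul_ne_zero (hC i) fun h => (hh i).2 ((hQ _).1 h)
  let gq : MvPolynomial (Fin n) R ⧸ Ideal.span (Set.range PP) →ₐ[MvPolynomial (Fin n) R] L :=
    Ideal.Quotient.liftₐ _ (Algebra.ofId _ L) fun x hx =>
      (Ideal.span_le (I := RingHom.ker ψR)).2 (by rintro _ ⟨i, rfl⟩; exact hP0 i) hx
  let gE : E PP →ₐ[MvPolynomial (Fin n) R] L :=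
    IsLocalization.Away.liftAlgHom (Ideal.Quotient.mk (Ideal.span (Set.range PP)) (Hens.jacDet PP)) (f := gq)
      (Ne.isUnit hjac)
  let Z := E PP ⊗[MvPolynomial (Fin n) R] A
  let gZ : Z →ₐ[MvPolynomial (Fin n) R] L := Algebra.TensorProduct.lift gE gA fun _ _ => Commute.all _ _
  have hgZ : ∀ a, gZ ((1 : E PP) ⊗ₜ a) = ψA a := fun a => by
    rw [Algebra.TensorProduct.lift_tmul, map_one, one_mul]; rfl
  haveI : Algebra.Etale R (E PP) := Hens.etale_away_jacDet PP
  haveI : Algebra.Etale (E PP) Z := inferInstance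
  haveI : Algebra.Etale R Z := Algebra.Etale.comp R (E PP) Z
  let π : A →ₗ[R] Z := ((Algebra.TensorProduct.includeRight : A →ₐ[MvPolynomial (Fin n) R] Z).restrictScalars R).toLinearMap
  let μZ : M ⊗[R] Z →ₗ[R] Z := TensorProduct.lift ((LinearMap.lsmul R Z).comp (p ^ i).subtype)
  have hinj : Function.Injective μZ := Module.Flat.iff_lift_lsmul_comp_subtype_injective.1 inferInstance (IsNoetherian.noetherian _)
  have hμ : ∀ x, μZ (π.lTensor M x) = π (μ x) := fun x => by
    induction x with
    | zero => simp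
    | tmul m a => exact (LinearMap.map_smul π (m : R) a).symm
    | add x y hx hy => rw [map_add, map_add, map_add, map_add, hx, hy]
  have hτZ : π.lTensor M τ = 0 := hinj (by
    rw [hμ, hτ, map_zero]
    show (1 : E PP) ⊗ₜ (g * t) = 0
    rw [← one_mul (1 : E PP), ← Algebra.TensorProduct.tmul_mul_tmul, h0, mul_zero])
  let ψκ : κ →+* L := ψX.comp (algebraMap κ (MvPolynomial (Fin n) κ))
  have hψκ : ∀ r, ψκ (algebraMap R κ r) = algebraMap R L r := fun r => by
    show ψF (algebraMap (MvPolynomial (Fin n) κ) F (algebraMap κ _ (algebraMap R κ r))) = _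
    rw [← IsScalarTower.algebraMap_apply R κ (MvPolynomial (Fin n) κ),
      ← IsScalarTower.algebraMap_apply R (MvPolynomial (Fin n) κ) F]
    exact (IsScalarTower.algebraMap_apply R F L r).symm
  let ψκ' : κ →ₐ[R] L := { ψκ with commutes' := hψκ }
  let B : M ⊗[R] Z →ₗ[R] L :=
    TensorProduct.lift (((LinearMap.mul R L).comp (ψκ'.toLinearMap.comp θ)).compl₂ (gZ.restrictScalars R).toLinearMap)
  have hB : ∀ x, B (π.lTensor M x) = ψF (e.symm (TensorProduct.map θ (LinearMap.id : A →ₗ[R] A) x)) := fun x => by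
    induction x with
    | zero => simp
    | tmul m a =>
      show ψX (algebraMap κ _ (θ m)) * gZ ((1 : E PP) ⊗ₜ a) = ψF (e.symm (θ m ⊗ₜ a))
      rw [hgZ, Algebra.IsPushout.cancelBaseChangeAlg_symm_tmul]
      show ψF (algebraMap _ F _) * ψF (1 ⊗ₜ a) = _
      rw [← map_mul]
      congr 1
      rw [Algebra.TensorProduct.algebraMap_apply, Algebra.algebraMap_self, RingHom.id_apply,
        Algebra.TensorProduct.tmul_mul_tmul, mul_one, one_mul]
    | add x y hx hy => simp only [map_add, hx, hy]
  refine hcQ ((hQ c).1 ?_)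
  have := hB τ
  rw [hτZ, map_zero] at this
  exact this.symm

end Core

end Groth.Agent.EtSlice1
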